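import Mathlib
import Cfsg.Agent.Lib.helper14.SpBNm
import Cfsg.Agent.Lib.Helper5.UNI.Defs

/-!
Project UNS (S2316: the number of `p`-elements of `Sp_{2m}(q)` is `q ^ (2 m²)`): definitions.

helper5's abstract `uniabs_main` on helper14's (B,N)-pair `spBN` of the symplectic group.  The
parabolic data of `J ⊆ range m` are described by the BLOCK FUNCTION of `J` on the ranks
`0, …, 2m - 1` (`helper14.SpBN.rk`: `e₁ < … < e_m < f_m < … < f₁`): the ranks `t`, `t + 1` are in
the same block iff the simple reflection `sidx m t` exchanging them is in `J`.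
-/

set_option autoImplicit false

namespace Cfsg.Agent.Lib.Helper11.UNS

open Cfsg.Agent.Lib.helper14.SpBN

universe u

variable {m : ℕ}

/-- the index of the simple reflection exchanging the ranks `t` and `t + 1` (`t ≤ 2m - 2`) -/
def sidx (m t : ℕ) : ℕ := if t < m then t else 2 * m - 2 - t

/-- the number of the `J`-block containing the rank `r`: the number of breaks below `r` -/
def blk (m : ℕ) (J : Finset ℕ) (r : ℕ) : ℕ := ((Finset.range r).filter fun t => sidx m t ∉ J).card

/-- the block function on the index set -/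
def bfJ (J : Finset ℕ) (x : Fin m ⊕ Fin m) : ℕ := blk m J (rk x)

/-- `π` maps every `J`-block to itself -/
def BP (J : Finset ℕ) (π : Equiv.Perm (Fin m ⊕ Fin m)) : Prop := ∀ x, bfJ J (π x) = bfJ J x

/-- `M` vanishes on and below the diagonal blocks -/
def StrictJ {R : Type*} [Zero R] (J : Finset ℕ) (M : Matrix (Fin m ⊕ Fin m) (Fin m ⊕ Fin m) R) :
    Prop := ∀ x y, bfJ J y ≤ bfJ J x → M x y = 0

/-- `π` commutes with `swap`, preserves the `J`-blocks and reverses the order inside every block: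
the longest element of `W_J` -/
def IsRev (J : Finset ℕ) (π : Equiv.Perm (Fin m ⊕ Fin m)) : Prop :=
  SwC π ∧ BP J π ∧ ∀ x y, bfJ J x = bfJ J y → rk x < rk y → rk (π y) < rk (π x)

open Classical in
/-- the longest element of `W_J` (row W1: it exists) -/
noncomputable def wJ (m : ℕ) (J : Finset ℕ) : Equiv.Perm (Fin m ⊕ Fin m) :=
  if h : ∃ π : Equiv.Perm (Fin m ⊕ Fin m), IsRev J π then h.choose else 1

theorem wJ_isRev (J : Finset ℕ) (h : ∃ π : Equiv.Perm (Fin m ⊕ Fin m), IsRev J π) :
    IsRev J (wJ m J) := by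
  unfold wJ
  rw [dif_pos h]
  exact h.choose_spec

theorem SwC_wJ (m : ℕ) (J : Finset ℕ) : SwC (wJ m J) := by
  unfold wJ
  split_ifs with h
  · exact h.choose_spec.1
  · exact SwC_one

theorem BP_one (J : Finset ℕ) : BP J (1 : Equiv.Perm (Fin m ⊕ Fin m)) := fun _ => rfl

theorem BP_mul (J : Finset ℕ) {π ρ : Equiv.Perm (Fin m ⊕ Fin m)} (h1 : BP J π) (h2 : BP J ρ) :
    BP J (π * ρ) := by
  intro x
  rw [Equiv.Perm.mul_apply, h1, h2]

theorem BP_inv (J : Finset ℕ) {π : Equiv.Perm (Fin m ⊕ Fin m)} (h : BP J π) : BP J π⁻¹ := by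
  intro x
  have := h (π⁻¹ x)
  rw [Equiv.Perm.inv_def, Equiv.apply_symm_apply] at this
  rw [Equiv.Perm.inv_def]
  exact this.symm

theorem BP_symm (J : Finset ℕ) {π : Equiv.Perm (Fin m ⊕ Fin m)} (h : BP J π)
    (x : Fin m ⊕ Fin m) : bfJ J (π.symm x) = bfJ J x := BP_inv J h x

variable (F : Type u) [Field F]

/-- the longest element of `W_J` in the group -/
noncomputable def nJ (m : ℕ) (J : Finset ℕ) : ↥(Matrix.symplecticGroup (Fin m) F) :=
  monoSp (wJ m J) (SwC_wJ m J)

theorem isMono_nJ (m : ℕ) (J : Finset ℕ) : IsMono (nJ F m J).1 (wJ m J) := isMono_monoSp _ _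

theorem nJ_mem_Nsp (m : ℕ) (J : Finset ℕ) : nJ F m J ∈ Nsp m F := monoSp_mem_Nsp _ _

end Cfsg.Agent.Lib.Helper11.UNS
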